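import Mathlib
import Cfsg.Agent.Lib.Helper28.CoverL

/-!
# Word data for the cover presentations used for the Schur multiplier of `G₂(4)` (helper28)

Letters: `2 * i` is the generator `i`, `2 * i + 1` its inverse.
Level 0: `G₂(4)` on the six involutions `c, d, a, b, e, f` (the presentation `G2.PG`);
level 1: `J₂` on `c, d, a, b, e` (the relators of level 0 without `f`);
level 2: `U₃(3)` on `u = e d c b a b c d e` and `v = d c b a`.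
`relL j`: relators; `facsL j`: for each generator `x` a list of relators or inverses of relators
whose product has the exponent sums of `x⁻¹`.
-/

set_option autoImplicit false
set_option maxRecDepth 1000000

namespace Cfsg.Agent.Lib.Helper28.G2Mult.Words

open Cfsg.Agent.Lib.Helper28.CovL

/-- the relators of level 0 -/
def relL0 : List (List ℕ) :=
  [[0, 0],
    [2, 2],
    [4, 4],
    [6, 6],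
    [8, 8],
    [10, 10],
    [4, 6, 4, 6, 4, 6, 4, 6, 4, 6],
    [4, 0, 4, 0],
    [4, 2, 4, 2],
    [4, 8, 4, 8],
    [4, 10, 4, 10],
    [6, 0, 6, 0, 6, 0],
    [6, 2, 6, 2],
    [6, 8, 6, 8],
    [6, 10, 6, 10, 6, 10],
    [0, 2, 0, 2, 0, 2, 0, 2, 0, 2, 0, 2, 0, 2, 0, 2],
    [0, 8, 0, 8],
    [0, 10, 0, 10],
    [2, 8, 2, 8, 2, 8],
    [2, 10, 2, 10],
    [8, 10, 8, 10],
    [4, 0, 2, 0, 2, 0, 2, 0, 2],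
    [4, 6, 0, 10, 4, 6, 0, 10, 4, 6, 0, 10, 4, 6, 0, 10, 4, 6, 0, 10],
    [6, 0, 2, 0, 2, 6, 0, 2, 0, 2, 6, 0, 2, 0, 2, 6, 0, 2, 0, 2, 6, 0, 2, 0, 2, 8, 6, 0, 2, 0, 2, 6, 0, 2, 0, 2, 6, 0, 2, 0, 2, 6, 0, 2, 0, 2, 6, 0, 2, 0, 2, 8, 6, 0, 2, 0, 2, 6, 0, 2, 0, 2, 6, 0, 2, 0, 2, 6, 0, 2, 0, 2, 6, 0, 2, 0, 2, 8]]

/-- the factorisations of level 0 -/
def facsL0 : List (List (List ℕ)) :=
  [[[1, 7, 1, 7, 1, 7],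
    [7, 7],
    [0, 0],
    [0, 0],
    [0, 0],
    [4, 6, 4, 6, 4, 6, 4, 6, 4, 6],
    [5, 5],
    [5, 5],
    [3, 1, 3, 1, 3, 1, 3, 1, 5],
    [2, 2],
    [2, 2]],
   [[9, 3, 9, 3, 9, 3],
    [3, 3],
    [3, 3],
    [3, 3],
    [3, 3],
    [3, 3],
    [3, 3],
    [3, 3],
    [3, 3],
    [3, 3],
    [3, 3],
    [3, 3],
    [3, 3],
    [3, 3],
    [3, 3],
    [3, 3],
    [3, 3],
    [6, 0, 2, 0, 2, 6, 0, 2, 0, 2, 6, 0, 2, 0, 2, 6, 0, 2, 0, 2, 6, 0, 2, 0, 2, 8, 6, 0, 2, 0, 2, 6, 0, 2, 0, 2, 6, 0, 2, 0, 2, 6, 0, 2, 0, 2, 6, 0, 2, 0, 2, 8, 6, 0, 2, 0, 2, 6, 0, 2, 0, 2, 6, 0, 2, 0, 2, 6, 0, 2, 0, 2, 6, 0, 2, 0, 2, 8],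
    [7, 7],
    [7, 7],
    [7, 7],
    [7, 7],
    [7, 7],
    [1, 1],
    [1, 1],
    [1, 1],
    [1, 1],
    [1, 1],
    [1, 1],
    [1, 1],
    [1, 1],
    [1, 1],
    [1, 1],
    [1, 1],
    [1, 1],
    [1, 1],
    [1, 1],
    [1, 1],
    [1, 1],
    [1, 1],
    [7, 5, 7, 5, 7, 5, 7, 5, 7, 5],
    [4, 4],
    [4, 4],
    [4, 0, 2, 0, 2, 0, 2, 0, 2]],
   [[3, 1, 3, 1, 3, 1, 3, 1, 5],
    [0, 0],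
    [0, 0],
    [2, 2],
    [2, 2]],
   [[7, 5, 7, 5, 7, 5, 7, 5, 7, 5],
    [4, 4],
    [4, 4],
    [6, 6],
    [6, 6],
    [4, 0, 2, 0, 2, 0, 2, 0, 2],
    [1, 1],
    [1, 1],
    [3, 3],
    [3, 3]],
   [[9, 3, 1, 3, 1, 7, 3, 1, 3, 1, 7, 3, 1, 3, 1, 7, 3, 1, 3, 1, 7, 3, 1, 3, 1, 7, 9, 3, 1, 3, 1, 7, 3, 1, 3, 1, 7, 3, 1, 3, 1, 7, 3, 1, 3, 1, 7, 3, 1, 3, 1, 7, 9, 3, 1, 3, 1, 7, 3, 1, 3, 1, 7, 3, 1, 3, 1, 7, 3, 1, 3, 1, 7, 3, 1, 3, 1, 7],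
    [6, 6],
    [6, 6],
    [6, 6],
    [6, 6],
    [6, 6],
    [0, 0],
    [0, 0],
    [0, 0],
    [0, 0],
    [0, 0],
    [0, 0],
    [0, 0],
    [0, 0],
    [0, 0],
    [0, 0],
    [0, 0],
    [0, 0],
    [0, 0],
    [0, 0],
    [0, 0],
    [0, 0],
    [0, 0],
    [2, 2],
    [2, 2],
    [2, 2],
    [2, 2],
    [2, 2],
    [2, 2],
    [2, 2],
    [2, 2],
    [2, 2],
    [2, 2],
    [2, 2],
    [2, 2],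
    [2, 2],
    [2, 2],
    [2, 2],
    [2, 2],
    [2, 2],
    [8, 8],
    [4, 6, 4, 6, 4, 6, 4, 6, 4, 6],
    [5, 5],
    [5, 5],
    [3, 1, 3, 1, 3, 1, 3, 1, 5]],
   [[11, 7, 11, 7, 11, 7],
    [7, 7],
    [10, 10],
    [4, 6, 4, 6, 4, 6, 4, 6, 4, 6],
    [5, 5],
    [5, 5],
    [3, 1, 3, 1, 3, 1, 3, 1, 5],
    [0, 0],
    [0, 0],
    [2, 2],
    [2, 2]]]

/-- the relators of level 1 -/
def relL1 : List (List ℕ) :=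
  [[0, 0],
    [2, 2],
    [4, 4],
    [6, 6],
    [8, 8],
    [4, 6, 4, 6, 4, 6, 4, 6, 4, 6],
    [4, 0, 4, 0],
    [4, 2, 4, 2],
    [4, 8, 4, 8],
    [6, 0, 6, 0, 6, 0],
    [6, 2, 6, 2],
    [6, 8, 6, 8],
    [0, 2, 0, 2, 0, 2, 0, 2, 0, 2, 0, 2, 0, 2, 0, 2],
    [0, 8, 0, 8],
    [2, 8, 2, 8, 2, 8],
    [4, 0, 2, 0, 2, 0, 2, 0, 2],
    [6, 0, 2, 0, 2, 6, 0, 2, 0, 2, 6, 0, 2, 0, 2, 6, 0, 2, 0, 2, 6, 0, 2, 0, 2, 8, 6, 0, 2, 0, 2, 6, 0, 2, 0, 2, 6, 0, 2, 0, 2, 6, 0, 2, 0, 2, 6, 0, 2, 0, 2, 8, 6, 0, 2, 0, 2, 6, 0, 2, 0, 2, 6, 0, 2, 0, 2, 6, 0, 2, 0, 2, 6, 0, 2, 0, 2, 8]]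

/-- the relators of level 2 -/
def relL2 : List (List ℕ) :=
  [[0, 0],
    [2, 2, 2, 2, 2, 2, 2, 2],
    [3, 3, 3, 3, 3, 3, 3, 3],
    [3, 0, 3, 0, 3, 0, 3, 0, 3, 0, 3, 0],
    [3, 3, 3, 3, 0, 3, 3, 3, 3, 0, 3, 3, 3, 3, 0],
    [3, 3, 3, 3, 0, 3, 3, 3, 3, 0, 2, 2, 2, 2, 0],
    [3, 3, 0, 3, 0, 3, 3, 0, 3, 0, 3, 3, 0, 3, 0],
    [3, 0, 2, 0, 3, 0, 2, 0, 3, 0, 2, 0, 3, 0, 2, 0],
    [3, 3, 0, 3, 0, 3, 0, 2, 0, 2, 0, 2, 0, 3, 0, 3, 0],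
    [3, 3, 3, 3, 3, 3, 3, 0, 2, 0, 2, 0, 2, 0, 2, 0, 2, 0],
    [3, 3, 3, 3, 3, 3, 0, 2, 0, 2, 2, 0, 2, 0, 2, 2, 0, 2, 0],
    [3, 3, 0, 3, 3, 0, 3, 0, 2, 0, 2, 2, 0, 2, 2, 0, 2, 0, 3, 0],
    [3, 3, 3, 3, 3, 3, 0, 2, 0, 2, 0, 3, 0, 3, 0, 3, 0, 2, 0, 2, 0],
    [3, 3, 3, 3, 0, 3, 3, 3, 0, 2, 0, 2, 0, 2, 0, 2, 0, 3, 3, 3, 0]]

/-- the factorisations of level 2 -/
def facsL2 : List (List (List ℕ)) :=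
  [[[3, 0, 3, 0, 3, 0, 3, 0, 3, 0, 3, 0],
    [1, 2, 2, 2, 1, 3, 1, 3, 1, 3, 1, 3, 1, 2, 2, 2, 1, 2, 2, 2, 2]],
   [[0, 0],
    [0, 0],
    [0, 0],
    [1, 3, 1, 3, 3, 1, 3, 1, 3, 3, 1, 3, 1, 2, 2, 2, 2, 2, 2]]]

/-- the subgroup words of level 0: the canonical lifts of `c, d, a, b, e` -/
def subs0 : List (List ℕ) :=
  [0 :: (facsL0.getD 0 []).flatten, 2 :: (facsL0.getD 1 []).flatten, 4 :: (facsL0.getD 2 []).flatten,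
    6 :: (facsL0.getD 3 []).flatten, 8 :: (facsL0.getD 4 []).flatten]

/-- `c`, `b`, `v`, `u` as words of level 0 and as words in `u, v` -/
def subW : List (List ℕ × List ℕ) :=
  [([0], [3, 3, 0, 2, 0, 3, 0, 2, 2]), ([6], [3, 0, 2, 0, 3, 0, 2]), ([2, 0, 6, 4], [2]), ([8, 2, 0, 6, 4, 6, 0, 2, 8], [0])]

/-- the subgroup words of level 1: five commutators -/
def subs1 : List (List ℕ) :=
  [commL2 [0] [6],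
    commL2 [0] [2, 0, 6, 4],
    commL2 [0] [8, 2, 0, 6, 4, 6, 0, 2, 8],
    commL2 [6] [2, 0, 6, 4],
    commL2 [2, 0, 6, 4] [8, 2, 0, 6, 4, 6, 0, 2, 8]]

/-- no subgroup words at level 2 -/
def subs2 : List (List ℕ) := []

end Cfsg.Agent.Lib.Helper28.G2Mult.Words
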